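import Cfsg.Agent.CoxTori.Cert
import Cfsg.Agent.Weyl.Roots
import Cfsg.Agent.Chevalley.WeylGroup
/-!
The values of the tuples on the roots: for a parameter of exact order `P(q)` none is `1`, and only
the trivial element of the Weyl group preserves them.
-/

set_option autoImplicit false

namespace CfsgLib.CoxTori

open Cfsg.Lie CfsgLib.Chevalley CfsgLib.ChevTorus

theorem pbound_padd {B B' : ℕ} : ∀ {l : ℕ} {L M : List ℤ}, pbound B l L = true →
    pbound B' l M = true → pbound (B + B') l (padd L M) = true
  | l, [], M, _, hM => by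
    rw [show padd [] M = M from rfl]
    simp only [pbound, Bool.and_eq_true, decide_eq_true_eq, List.all_eq_true] at hM ⊢
    exact ⟨hM.1, fun c hc => (hM.2 c hc).trans (by omega)⟩
  | l, c :: L, [], hL, _ => by
    rw [show padd (c :: L) [] = c :: L from rfl]
    simp only [pbound, Bool.and_eq_true, decide_eq_true_eq, List.all_eq_true] at hL ⊢
    exact ⟨hL.1, fun c hc => (hL.2 c hc).trans (by omega)⟩
  | 0, c :: L, d :: M, hL, _ => by simp [pbound] at hL
  | l + 1, c :: L, d :: M, hL, hM => by
    simp only [pbound, padd, Bool.and_eq_true, decide_eq_true_eq, List.length_cons, List.all_cons,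
      Nat.add_le_add_iff_right] at hL hM ⊢
    have := pbound_padd (l := l) (L := L) (M := M) (B := B) (B' := B')
      (by simp [pbound, hL.1, hL.2.2]) (by simp [pbound, hM.1, hM.2.2])
    simp only [pbound, Bool.and_eq_true, decide_eq_true_eq] at this
    exact ⟨this.1, (Int.natAbs_add_le c d).trans (add_le_add hL.2.1 hM.2.1), this.2⟩

theorem pbound_pneg {B l : ℕ} {L : List ℤ} (h : pbound B l L = true) :
    pbound B l (pneg L) = true := by
  simp only [pbound, pneg, Bool.and_eq_true, decide_eq_true_eq, List.all_eq_true,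
    List.length_map, List.mem_map] at h ⊢
  refine ⟨h.1, ?_⟩
  rintro c ⟨d, hd, rfl⟩
  rw [Int.natAbs_neg]
  exact h.2 d hd

variable {D : ChevalleyDatum} {C : Weyl.Cert D.rank} {M : CoxeterMatrix (Fin D.rank)}
  {R : Weyl.RootTable}

/-- The pairing is invariant under the Weyl group. -/
theorem pairing_rootPerm (hW : GoodWeyl D) (h : Weyl.RootGood C M R) (w : M.Group)
    (r s : Root D) : D.pairing (h.rootPerm w r) (h.rootPerm w s) = D.pairing r s := by
  induction w using M.toCoxeterSystem.simple_induction_left with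
  | one => rw [map_one]; rfl
  | mul_simple_left w i ih =>
    rw [map_mul, Equiv.Perm.mul_apply, Equiv.Perm.mul_apply, CoxeterMatrix.toCoxeterSystem_simple,
      ← wPerm_eq_rootPerm hW h, hW.pairing_wPerm, hW.wPerm_wPerm]
    exact ih

/-- An element fixing every simple root is trivial. -/
theorem eq_one_of_fix_simple (h : Weyl.RootGood C M R) {w : M.Group}
    (hw : ∀ i, h.rootPerm w (h.simpleRoot i) = h.simpleRoot i) : w = 1 :=
  h.eq_one_of_invSet_empty (h.invSet_eq_empty fun i => by rw [hw]; exact h.pos_simpleRoot i)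

namespace TorusCert

variable (T : TorusCert D)

/-- The exponent of the value on a root. -/
def eP (r : ℕ) : List ℤ := fsum fun k : Fin D.rank => (T.aP k).map (D.cartan k r * ·)

/-- Small coefficients, distinct and nonzero. -/
def chkLarge : Bool :=
  let L := (List.range D.nroots).map fun r => T.eP r
  L.all (fun e => pbound 2 D.rank e) && L.all (fun e => decide (pev 16 e ≠ 0)) &&
    decide (L.map (pev 16)).Nodup

/-- The value of a root modulo `P(q)`. -/
def eVal (q : ℤ) (r : ℕ) : ℤ := pev q (T.eP r) % pev q T.P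

/-- The possible images of the first simple roots. -/
def cands (q : ℤ) : ℕ → List (List ℕ)
  | 0 => [[]]
  | n + 1 => (cands q n).flatMap fun L =>
      ((List.range D.nroots).filter fun r =>
        (T.eVal q r == T.eVal q (D.simple n)) && (List.range n).all fun j =>
          (D.pairing (L.getD j 0) r == D.cartan j (D.simple n)) &&
            (D.pairing r (L.getD j 0) == D.cartan n (D.simple j))).map fun r => L ++ [r]

/-- At a small `q`: no value is zero and only the identity preserves values and pairings. -/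
def chkSmall (q : ℤ) : Bool :=
  (List.range D.nroots).all (fun r => decide (T.eVal q r ≠ 0)) &&
    (T.cands q D.rank).all fun L => L == (List.range D.rank).map D.simple

variable {T} {F : Type*} [Field F]

theorem torVal_tup (q : ℤ) (z : Fˣ) (r : Root D) :
    torVal (T.tup q z) (Sum.inr r) = z ^ pev q (T.eP r) := by
  rw [eP, pev_fsum, zpow_finsetSum, torVal]
  refine Finset.prod_congr rfl fun k _ => ?_
  rw [wt_inr, pev_map_mul, tup_apply, ← zpow_mul, mul_comm]

theorem regular_of_sep (h : Weyl.RootGood C M R) (q : ℤ) {z : Fˣ}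
    (hz : (orderOf z : ℤ) = pev q T.P)
    (hne : ∀ r : Root D, ¬ pev q T.P ∣ pev q (T.eP r))
    (hsep : ∀ w : M.Group, (∀ r : Root D, pev q T.P ∣
      pev q (T.eP (h.rootPerm w r)) - pev q (T.eP r)) → w = 1) :
    (∀ r : Root D, torVal (T.tup q z) (Sum.inr r) ≠ 1) ∧
      ∀ w : M.Group, (∀ r : Root D, torVal (T.tup q z) (Sum.inr (h.rootPerm w r)) =
        torVal (T.tup q z) (Sum.inr r)) → w = 1 := by
  refine ⟨fun r e => hne r ?_, fun w hw => hsep w fun r => ?_⟩
  · rw [torVal_tup, ← orderOf_dvd_iff_zpow_eq_one, hz] at e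
    exact e
  · have e := hw r
    rw [torVal_tup, torVal_tup, ← mul_inv_eq_one, ← zpow_sub, ← orderOf_dvd_iff_zpow_eq_one,
      hz] at e
    exact e

theorem sep_large (hW : GoodWeyl D) (h : Weyl.RootGood C M R) (hl : T.chkLarge = true) {q : ℤ}
    (hq : 4 < q) (hbig : 4 * (q ^ D.rank - 1) < pev q T.P * (q - 1)) :
    (∀ r : Root D, ¬ pev q T.P ∣ pev q (T.eP r)) ∧
      ∀ w : M.Group, (∀ r : Root D, pev q T.P ∣
        pev q (T.eP (h.rootPerm w r)) - pev q (T.eP r)) → w = 1 := by
  simp only [chkLarge, Bool.and_eq_true, decide_eq_true_eq, List.all_eq_true, List.mem_map,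
    List.mem_range, forall_exists_index, and_imp, forall_apply_eq_imp_iff₂] at hl
  obtain ⟨⟨hb, h0⟩, hnd⟩ := hl
  have key : ∀ d : List ℤ, pbound 4 D.rank d = true → pev q T.P ∣ pev q d → pev 16 d = 0 := by
    intro d hd hdvd
    have h1 := abs_pev_le (x := q) (by omega) hd
    have h2 : |pev q d| < pev q T.P :=
      lt_of_mul_lt_mul_right (h1.trans_lt (by simpa using hbig)) (by omega)
    have h3 : pev q d = 0 := Int.eq_zero_of_abs_lt_dvd hdvd h2
    exact pev_zero (all_zero_of_pev_eq_zero (x := q) (by simpa using hq) hd h3)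
  refine ⟨fun r hr => h0 r r.isLt (key _ ?_ hr), fun w hw => eq_one_of_fix_simple h fun i => ?_⟩
  · have := pbound_padd (hb r r.isLt) (show pbound 2 D.rank [] = true by simp [pbound])
    cases hh : T.eP r with
    | nil => simp [pbound]
    | cons c L => rw [hh] at this; simpa [padd] using this
  · set s := h.simpleRoot i
    set r := h.rootPerm w s
    have e : pev 16 (T.eP r) = pev 16 (T.eP s) := by
      have := key (padd (T.eP r) (pneg (T.eP s)))
        (pbound_padd (hb r r.isLt) (pbound_pneg (hb s s.isLt))) (by simpa [sub_eq_add_neg] using hw s)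
      simpa [← sub_eq_add_neg, sub_eq_zero] using this
    rw [List.map_map] at hnd
    exact Fin.ext (List.inj_on_of_nodup_map hnd (List.mem_range.2 r.isLt)
      (List.mem_range.2 s.isLt) e)

theorem mem_cands (hW : GoodWeyl D) (h : Weyl.RootGood C M R) {q : ℤ} (w : M.Group)
    (hw : ∀ r : Root D, T.eVal q (h.rootPerm w r) = T.eVal q r) :
    ∀ n ≤ D.rank, ((List.range n).map fun j =>
      if hj : j < D.rank then (h.rootPerm w (pRoot hW ⟨j, hj⟩) : ℕ) else 0) ∈ T.cands q n := by
  intro n hn
  induction n with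
  | zero => simp [cands]
  | succ n ih =>
    rw [cands, List.mem_flatMap]
    refine ⟨_, ih (by omega), ?_⟩
    rw [List.mem_map]
    refine ⟨(h.rootPerm w (pRoot hW ⟨n, hn⟩) : ℕ), ?_, by
      rw [List.range_succ, List.map_append, List.map_singleton, dif_pos (show n < D.rank from hn)]⟩
    simp only [List.mem_filter, List.mem_range, Fin.is_lt, true_and, Bool.and_eq_true, beq_iff_eq,
      List.all_eq_true]
    refine ⟨hw _, fun j hj => ?_⟩
    have hj' : j < D.rank := by omega
    rw [List.getD_eq_getElem?_getD, List.getElem?_map, List.getElem?_range hj, Option.map_some,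
      Option.getD_some, dif_pos hj', pairing_rootPerm hW h, pairing_rootPerm hW h,
      hW.pairing_pRoot, hW.pairing_pRoot]
    exact ⟨rfl, rfl⟩

theorem sep_small (hW : GoodWeyl D) (h : Weyl.RootGood C M R) {q : ℤ}
    (hs : T.chkSmall q = true) :
    (∀ r : Root D, ¬ pev q T.P ∣ pev q (T.eP r)) ∧
      ∀ w : M.Group, (∀ r : Root D, pev q T.P ∣
        pev q (T.eP (h.rootPerm w r)) - pev q (T.eP r)) → w = 1 := by
  simp only [chkSmall, Bool.and_eq_true, List.all_eq_true, decide_eq_true_eq, List.mem_range,
    beq_iff_eq] at hs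
  refine ⟨fun r hr => hs.1 r r.isLt (Int.emod_eq_zero_of_dvd hr), fun w hw => ?_⟩
  have e := hs.2 _ (mem_cands hW h w (fun r => (Int.emod_eq_emod_iff_emod_sub_eq_zero).2
    (Int.emod_eq_zero_of_dvd (hw r))) D.rank le_rfl)
  refine eq_one_of_fix_simple h fun i => Fin.ext ?_
  have := List.map_inj_left.1 e i (List.mem_range.2 i.isLt)
  rw [dif_pos i.isLt] at this
  exact this

end TorusCert

end CfsgLib.CoxTori
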