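import Cfsg.Agent.CoxTori.Main
import Cfsg.Agent.CoxTori.Values
import Cfsg.Agent.SteinbergPres.CenterData
/-!
From the checks to the separation requirement.
-/

set_option autoImplicit false

namespace CfsgLib.CoxTori

open Cfsg.Lie CfsgLib.Chevalley CfsgLib.ChevTorus CfsgLib.SteinbergPres

variable {D : ChevalleyDatum} {C : Weyl.Cert D.rank} {M : CoxeterMatrix (Fin D.rank)}
  {R : Weyl.RootTable} {K : Type*} [Field K]

theorem separated (hW : GoodWeyl D) (h : Weyl.RootGood C M R) (T : TorusCert D)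
    (hl : T.chkLarge = true) (hs : ([2, 3, 4, 5, 6] : List ℤ).all T.chkSmall = true)
    (hbig : ∀ q : ℤ, 7 ≤ q → 4 * (q ^ D.rank - 1) < pev q T.P * (q - 1))
    {q : ℕ} (hq : 2 ≤ q) : Separated h T (q : ℤ) K := by
  intro z hz
  rcases Nat.lt_or_ge q 7 with h7 | h7
  · simp only [List.all_eq_true] at hs
    have hm : (q : ℤ) ∈ ([2, 3, 4, 5, 6] : List ℤ) := by
      simp only [List.mem_cons, List.not_mem_nil, or_false]
      omega
    obtain ⟨h1, h2⟩ := TorusCert.sep_small hW h (hs _ hm)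
    exact TorusCert.regular_of_sep h _ hz h1 h2
  · obtain ⟨h1, h2⟩ := TorusCert.sep_large hW h hl (by omega) (hbig q (by omega))
    exact TorusCert.regular_of_sep h _ hz h1 h2

theorem hbTor_injective_of_inverse (hP : GoodPres D)
    {L : Matrix (Fin D.rank) (Fin D.rank) ℤ} (hL : cartanMat D * L = 1) :
    Function.Injective (hbTor (K := K) hP) := by
  obtain ⟨f, hf⟩ := exists_hom (K := K) hP.toGoodWeyl
  rw [← MonoidHom.ker_eq_bot_iff, eq_bot_iff]
  intro c hc
  rw [Subgroup.mem_bot]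
  refine eq_one_of_right_inverse hL fun j => ?_
  have h1 : torC D c = (1 : GL D.Idx K) := by
    rw [← map_hbTor hP hf, MonoidHom.mem_ker.1 hc, map_one]
  exact congrFun ((torC_eq_one_iff hP.toGoodWeyl c).1 h1) j

end CfsgLib.CoxTori
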