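import Mathlib.Algebra.BigOperators.Fin
import Mathlib.Tactic.Ring
import Mathlib.Tactic.Linarith
import Mathlib.Algebra.Order.Ring.Abs
/-!
Integer polynomials as lists of coefficients (constant first), their values, and a bound for the
values.
-/

set_option autoImplicit false

namespace CfsgLib.CoxTori

/-- The value of a coefficient list. -/
def pev (x : ℤ) : List ℤ → ℤ
  | [] => 0
  | c :: L => c + x * pev x L

/-- Sum. -/
def padd : List ℤ → List ℤ → List ℤ
  | [], L => L
  | c :: L, [] => c :: L
  | c :: L, d :: M => (c + d) :: padd L M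

/-- Product. -/
def pmul : List ℤ → List ℤ → List ℤ
  | [], _ => []
  | c :: L, M => padd (M.map (c * ·)) (0 :: pmul L M)

/-- Negation. -/
def pneg (L : List ℤ) : List ℤ := L.map (- ·)

/-- The sum over `range n`. -/
def psum (n : ℕ) (f : ℕ → List ℤ) : List ℤ := ((List.range n).map f).foldr padd []

/-- Equality as polynomials. -/
def peq (L M : List ℤ) : Bool := (padd L (pneg M)).all fun c => c == 0

/-- All coefficients have absolute value at most `B`, and there are at most `l` of them. -/
def pbound (B : ℕ) (l : ℕ) (L : List ℤ) : Bool :=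
  decide (L.length ≤ l) && L.all fun c => decide (c.natAbs ≤ B)

variable {x : ℤ}

@[simp] theorem pev_nil : pev x [] = 0 := rfl
@[simp] theorem pev_cons (c : ℤ) (L : List ℤ) : pev x (c :: L) = c + x * pev x L := rfl

@[simp] theorem pev_padd : ∀ L M : List ℤ, pev x (padd L M) = pev x L + pev x M
  | [], L => by simp [padd]
  | c :: L, [] => by simp [padd]
  | c :: L, d :: M => by simp [padd, pev_padd L M]; ring

@[simp] theorem pev_map_mul (c : ℤ) : ∀ L : List ℤ, pev x (L.map (c * ·)) = c * pev x L
  | [] => by simp
  | d :: L => by simp [pev_map_mul c L]; ring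

@[simp] theorem pev_pneg : ∀ L : List ℤ, pev x (pneg L) = -pev x L
  | [] => by simp [pneg]
  | d :: L => by
    have h := pev_pneg L
    simp only [pneg] at h ⊢
    simp [h]
    ring

@[simp] theorem pev_pmul : ∀ L M : List ℤ, pev x (pmul L M) = pev x L * pev x M
  | [], M => by simp [pmul]
  | c :: L, M => by simp [pmul, pev_pmul L M]; ring

theorem pev_zero : ∀ {L : List ℤ}, (L.all fun c => c == 0) = true → pev x L = 0
  | [], _ => rfl
  | c :: L, h => by
    simp only [List.all_cons, Bool.and_eq_true, beq_iff_eq] at h
    simp [h.1, pev_zero (L := L) h.2]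

theorem pev_eq_of_peq {L M : List ℤ} (h : peq L M = true) : pev x L = pev x M := by
  have := pev_zero (x := x) h
  simp only [pev_padd, pev_pneg] at this
  linarith

theorem pev_psum (n : ℕ) (f : ℕ → List ℤ) :
    pev x (psum n f) = ∑ k : Fin n, pev x (f k) := by
  have h : ∀ L : List ℕ, pev x ((L.map f).foldr padd []) = (L.map fun k => pev x (f k)).sum := by
    intro L
    induction L with
    | nil => simp
    | cons k L ih => simp [ih]
  rw [psum, h, ← List.map_coe_finRange_eq_range, List.map_map, Fin.sum_univ_def]
  rfl

/-- A polynomial with coefficients bounded by `B` has value at most `B (1 + x + ⋯)`. -/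
theorem abs_pev_le {B : ℕ} (hx : 2 ≤ x) :
    ∀ {l : ℕ} {L : List ℤ}, pbound B l L = true → |pev x L| * (x - 1) ≤ B * (x ^ l - 1)
  | l, [], _ => by
    have : (1 : ℤ) ≤ x ^ l := one_le_pow₀ (by omega)
    simp
    positivity
  | 0, c :: L, h => by simp [pbound] at h
  | l + 1, c :: L, h => by
    simp only [pbound, Bool.and_eq_true, decide_eq_true_eq, List.length_cons, List.all_cons,
      Nat.add_le_add_iff_right] at h
    have ih := abs_pev_le (B := B) hx (l := l) (L := L) (by simp [pbound, h.1, h.2.2])
    have hc : |c| ≤ B := by rw [← Int.natCast_natAbs]; exact_mod_cast h.2.1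
    have h1 : |c + x * pev x L| ≤ |c| + x * |pev x L| := by
      refine (abs_add_le _ _).trans ?_
      rw [abs_mul, abs_of_pos (by omega : (0 : ℤ) < x)]
    calc |pev x (c :: L)| * (x - 1) ≤ (|c| + x * |pev x L|) * (x - 1) :=
          mul_le_mul_of_nonneg_right h1 (by omega)
      _ = |c| * (x - 1) + x * (|pev x L| * (x - 1)) := by ring
      _ ≤ B * (x - 1) + x * (B * (x ^ l - 1)) :=
          add_le_add (mul_le_mul_of_nonneg_right hc (by omega))
            (mul_le_mul_of_nonneg_left ih (by omega))
      _ = B * (x ^ (l + 1) - 1) := by ring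

/-- A polynomial with small coefficients that vanishes at a large argument vanishes identically. -/
theorem all_zero_of_pev_eq_zero {B : ℕ} (hx : (B : ℤ) < x) :
    ∀ {l : ℕ} {L : List ℤ}, pbound B l L = true → pev x L = 0 → (L.all fun c => c == 0) = true
  | _, [], _, _ => rfl
  | 0, c :: L, h, _ => by simp [pbound] at h
  | l + 1, c :: L, h, h0 => by
    simp only [pbound, Bool.and_eq_true, decide_eq_true_eq, List.length_cons, List.all_cons,
      Nat.add_le_add_iff_right] at h
    rw [pev_cons] at h0
    have hc : |c| ≤ B := by rw [← Int.natCast_natAbs]; exact_mod_cast h.2.1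
    have hdvd : x ∣ c := ⟨-pev x L, by linarith⟩
    have hc0 : c = 0 := by
      by_contra hne
      have := Int.le_of_dvd (abs_pos.2 hne) ((dvd_abs _ _).2 hdvd)
      omega
    subst hc0
    have hz : pev x L = 0 := by
      rcases mul_eq_zero.1 (show x * pev x L = 0 by linarith) with h' | h'
      · omega
      · exact h'
    simp [all_zero_of_pev_eq_zero hx (l := l) (L := L) (by simp [pbound, h.1, h.2.2]) hz]

end CfsgLib.CoxTori
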