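import Cfsg.Agent.CoxTori.NConj
import Cfsg.Agent.CoxTori.Poly
import Mathlib.GroupTheory.OrderOfElement
/-!
Polynomial certificates for the fixed tuples of a twisted torus: for `G(q) = q W - 1` and
polynomials `a`, `u` the tuples killed by `monAct G(q)` are exactly `(z ^ a_k(q))_k` with
`z ^ P(q) = 1`.
-/

set_option autoImplicit false

namespace CfsgLib.CoxTori

open Cfsg.Lie CfsgLib.Chevalley CfsgLib.ChevTorus

/-- A finite sum of polynomials. -/
def fsum {n : ℕ} (f : Fin n → List ℤ) : List ℤ := (List.ofFn f).foldr padd []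

theorem pev_fsum {x : ℤ} {n : ℕ} (f : Fin n → List ℤ) : pev x (fsum f) = ∑ k, pev x (f k) := by
  have h : ∀ L : List (List ℤ), pev x (L.foldr padd []) = (L.map (pev x)).sum := by
    intro L
    induction L with
    | nil => simp
    | cons k L ih => simp [ih]
  rw [fsum, h, List.map_ofFn, List.sum_ofFn]
  rfl

/-- The data of a cyclic twisted torus. -/
structure TorusCert (D : ChevalleyDatum) where
  /-- the word of the Weyl element -/
  word : List (Fin D.rank)
  /-- the order -/
  P : List ℤ
  a : List (List ℤ)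
  u : List (List ℤ)
  b : List (List ℤ)
  r : List (List ℤ)
  e : List ℤ
  N : List (List (List ℤ))

namespace TorusCert

variable {D : ChevalleyDatum} (T : TorusCert D)

/-- The entries of `q W - 1`. -/
def gP (k m : Fin D.rank) : List ℤ :=
  [-(if k = m then 1 else 0), (wordRow D k T.word).getD m 0]

/-- The exponents of the tuples. -/
def aP (k : Fin D.rank) : List ℤ := T.a.getD k []

/-- The exponents of the parameter. -/
def uP (k : Fin D.rank) : List ℤ := T.u.getD k []

/-- The identities. -/
def chk : Bool :=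
  (List.finRange D.rank).all (fun k => (List.finRange D.rank).all fun i =>
    peq (padd [if k = i then 1 else 0] (pneg (pmul (T.uP k) (T.aP i))))
      (fsum fun m : Fin D.rank => pmul (T.gP k m) ((T.N.getD m []).getD i []))) &&
  (List.finRange D.rank).all (fun m =>
    peq (fsum fun k : Fin D.rank => pmul (T.aP k) (T.gP k m)) (pmul T.P (T.b.getD m []))) &&
  peq (fsum fun k : Fin D.rank => pmul (T.aP k) (T.uP k)) (padd [1] (pmul T.P T.e)) &&
  (List.finRange D.rank).all (fun k =>
    peq (pmul T.P (T.uP k)) (fsum fun m : Fin D.rank => pmul (T.gP k m) (T.r.getD m [])))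

variable {T} {G : Type*} [CommGroup G] (q : ℤ)

/-- `q W - 1`. -/
def gMat (T : TorusCert D) (q : ℤ) : Matrix (Fin D.rank) (Fin D.rank) ℤ :=
  Matrix.of fun k m => pev q (T.gP k m)

/-- The tuple with parameter `z`. -/
def tup (T : TorusCert D) (q : ℤ) : G →* (Fin D.rank → G) where
  toFun z k := z ^ pev q (T.aP k)
  map_one' := by funext k; simp
  map_mul' a b := by funext k; simp [mul_zpow]

theorem tup_apply (T : TorusCert D) (q : ℤ) (z : G) (k : Fin D.rank) :
    T.tup q z k = z ^ pev q (T.aP k) := rfl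

theorem monAct_gMat (T : TorusCert D) (q : ℤ) (c : Fin D.rank → G) :
    monAct (T.gMat q) c = 1 ↔ monAct (wMat D T.word) (fun k => c k ^ q) = c := by
  have e : ∀ m, monAct (T.gMat q) c m = monAct (wMat D T.word) (fun k => c k ^ q) m * (c m)⁻¹ := by
    intro m
    simp only [monAct, MonoidHom.coe_mk, OneHom.coe_mk, gMat, Matrix.of_apply, gP, pev_cons,
      pev_nil, wMat, mul_zero, add_zero, zpow_add, Finset.prod_mul_distrib]
    rw [mul_comm]
    congr 1
    · exact Finset.prod_congr rfl fun k _ => zpow_mul _ _ _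
    · rw [Finset.prod_eq_single m (fun k _ hk => by simp [hk]) (by simp)]
      simp
  simp only [funext_iff, e, Pi.one_apply, mul_inv_eq_one]

theorem zpow_finsetSum {α : Type*} (s : Finset α) (z : G) (f : α → ℤ) :
    z ^ (∑ k ∈ s, f k) = ∏ k ∈ s, z ^ f k := by
  induction s using Finset.cons_induction with
  | empty => simp
  | cons a S ha ih => rw [Finset.sum_cons, Finset.prod_cons, zpow_add, ih]

variable (hT : T.chk = true)
include hT

theorem chk_facts :
    (∀ k i : Fin D.rank, (if k = i then 1 else 0) - pev q (T.uP k) * pev q (T.aP i) =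
      ∑ m : Fin D.rank, T.gMat q k m * pev q ((T.N.getD m []).getD i [])) ∧
    (∀ m : Fin D.rank, ∑ k, pev q (T.aP k) * T.gMat q k m = pev q T.P * pev q (T.b.getD m [])) ∧
    ((∑ k, pev q (T.aP k) * pev q (T.uP k)) = 1 + pev q T.P * pev q T.e) ∧
    (∀ k : Fin D.rank, pev q T.P * pev q (T.uP k) =
      ∑ m : Fin D.rank, T.gMat q k m * pev q (T.r.getD m [])) := by
  simp only [chk, Bool.and_eq_true, List.all_eq_true, List.mem_finRange, true_implies] at hT
  obtain ⟨⟨⟨h1, h2⟩, h3⟩, h4⟩ := hT
  refine ⟨fun k i => ?_, fun m => ?_, ?_, fun k => ?_⟩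
  · simpa [pev_fsum, gMat, sub_eq_add_neg] using pev_eq_of_peq (x := q) (h1 k i)
  · simpa [pev_fsum, gMat] using pev_eq_of_peq (x := q) (h2 m)
  · simpa [pev_fsum] using pev_eq_of_peq (x := q) h3
  · simpa [pev_fsum, gMat] using pev_eq_of_peq (x := q) (h4 k)

theorem monAct_tup {z : G} (hz : z ^ pev q T.P = 1) : monAct (T.gMat q) (T.tup q z) = 1 := by
  funext m
  simp only [monAct, MonoidHom.coe_mk, OneHom.coe_mk, tup_apply, Pi.one_apply, ← zpow_mul,
    ← zpow_finsetSum]
  rw [(chk_facts q hT).2.1 m, zpow_mul, hz, one_zpow]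

/-- The parameter of a tuple. -/
theorem prod_tup {z : G} (hz : z ^ pev q T.P = 1) :
    ∏ k, T.tup q z k ^ pev q (T.uP k) = z := by
  simp only [tup_apply, ← zpow_mul, ← zpow_finsetSum]
  rw [(chk_facts q hT).2.2.1, zpow_add, zpow_one, zpow_mul, hz, one_zpow, mul_one]

theorem exists_param {c : Fin D.rank → G} (hc : monAct (T.gMat q) c = 1) :
    ∃ z : G, z ^ pev q T.P = 1 ∧ T.tup q z = c := by
  obtain ⟨h1, -, -, h4⟩ := chk_facts q hT
  have hkey : ∀ f : Fin D.rank → ℤ, ∏ k, c k ^ (∑ m, T.gMat q k m * f m) = 1 := by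
    intro f
    simp only [zpow_finsetSum, zpow_mul]
    rw [Finset.prod_comm]
    refine Finset.prod_eq_one fun m _ => ?_
    rw [Finset.prod_zpow, show ∏ k, c k ^ T.gMat q k m = 1 from congrFun hc m, one_zpow]
  refine ⟨∏ k, c k ^ pev q (T.uP k), ?_, funext fun i => ?_⟩
  · rw [← Finset.prod_zpow]
    simp only [← zpow_mul]
    rw [Finset.prod_congr rfl fun k _ => by rw [mul_comm, h4 k]]
    exact hkey fun m => pev q (T.r.getD m [])
  · rw [tup_apply, ← Finset.prod_zpow]
    simp only [← zpow_mul]
    have := hkey fun m => pev q ((T.N.getD m []).getD i [])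
    simp only [← h1, zpow_sub, Finset.prod_mul_distrib, Finset.prod_inv_distrib,
      mul_inv_eq_one] at this
    rw [← this, Finset.prod_eq_single i (fun k _ hk => by simp [hk]) (by simp), if_pos rfl,
      zpow_one]

end TorusCert

end CfsgLib.CoxTori
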