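import Cfsg.Agent.CoxTori.Cert
import Cfsg.Prelude.Def_ChevE6
import Cfsg.Prelude.Def_ChevE7
/-!
The certificates of the tori of E₆ and E₇, and their checks.
-/

set_option autoImplicit false

namespace CfsgLib.CoxTori

open Cfsg.Lie

/-- The torus of E6. -/
def certE6 : TorusCert chevE6 where
  word := ([0, 5, 4, 1, 3, 2] : List (Fin 6))
  P :=
    [1, 1, 0, -1, 0, 1, 1]
  a :=
    [[-1, 0, 1, 1], [0, 0, 1, 1, 1], [-1, -1, 1, 2, 1], [0, 0, 1, 2, 2, 1], [0, 0, 1, 2, 1],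
    [0, 0, 1, 1]]
  u :=
    [[-1, 0, 0, 0, 0, -1], [], [], [], [], []]
  b :=
    [[1], [], [1], [], [], []]
  r :=
    [[1, 1, 0, 0, 1, 2, 1, 0, 0, 1, 1], [0, 0, 1, 1, 1, 0, 0, 1, 1, 1],
    [0, -1, -1, -1, -1, -1, -1, -1, -1, -1, -1], [0, 1, 0, -1, -1, 0, 1, 0, -1, -1],
    [0, 0, 1, 1, 0, 0, 0, 1, 1], [0, 0, 0, 1, 1, 0, 0, 0, 1, 1]]
  e :=
    [0, 0, -1]
  N :=
    [[[0, 0, -1, -1, 0, 0, -1, -1], [0, -1, -1, -2, -1, -1, -1, -1, -1],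
    [1, 0, -1, -2, -1, 0, -1, -2, -1], [0, -1, -2, -3, -3, -2, -2, -2, -2, -1],
    [0, -1, -2, -2, -2, -1, -1, -2, -1], [0, -1, -1, -1, -1, 0, -1, -1]],
    [[0, 0, 0, 0, -1, -1, -1], [-1, 0, -1, -1, -1, -2, -1, -1], [0, 0, 0, 0, -1, -2, -2, -1],
    [0, -1, -1, -2, -2, -3, -3, -2, -1], [0, -1, -1, -1, -2, -2, -2, -1],
    [0, -1, 0, -1, -1, -1, -1]], [[0, 0, 0, 1, 1, 1, 1, 1], [0, 1, 1, 2, 2, 2, 2, 1, 1],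
    [-1, 0, 0, 1, 2, 2, 2, 2, 1], [0, 1, 2, 3, 4, 4, 4, 3, 2, 1], [0, 1, 2, 2, 3, 3, 2, 2, 1],
    [0, 1, 1, 1, 2, 1, 1, 1]], [[0, 0, 0, -1, 0, 1, 1], [0, 0, 0, 0, 0, 1, 1, 1],
    [0, 0, 0, -1, -1, 1, 2, 1], [-1, 0, 0, 0, 0, 1, 2, 2, 1], [0, 0, 0, 0, 0, 1, 2, 1],
    [0, 0, 0, 0, 0, 1, 1]], [[0, 0, 0, 0, -1, -1], [0, -1, 0, -1, -1, -1, -1],
    [0, 0, 0, 0, -1, -2, -1], [0, -1, -1, -1, -2, -2, -2, -1], [-1, 0, -1, -1, -1, -2, -1],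
    [0, 0, -1, 0, -1, -1]], [[0, 0, 0, 0, 0, -1, -1], [0, 0, -1, 0, -1, -1, -1, -1],
    [0, 0, 0, 0, 0, -1, -2, -1], [0, 0, -1, -1, -1, -2, -2, -2, -1],
    [0, -1, 0, -1, -1, -1, -2, -1], [-1, 0, 0, -1, 0, -1, -1]]]

theorem chk_certE6 : certE6.chk = true := by decide +kernel

/-- The torus of E7. -/
def certE7 : TorusCert chevE7 where
  word := ([3, 4, 5, 1, 4, 3, 6, 0, 4, 2, 1] : List (Fin 7))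
  P :=
    [1, 0, -1, 1, 1, -1, 0, 1]
  a :=
    [[0, 1, 0, 0, 1], [0, 1, 1, 0, 0, 1], [0, 1, 1, 0, 1, 1], [1, 1, 1, 1, 1, 1],
    [1, 1, 0, 1, 1, 1], [1, 1, 0, 0, 1, 1], [1, 0, 0, 1, 0, 0, 1]]
  u :=
    [[0, 1], [0, 0, -1], [], [], [], [], []]
  b :=
    [[], [], [], [-1], [-1], [-1], [-1]]
  r :=
    [[0, -1, 0, 1, -1, 0, 1], [0, 0, 1, 0, -1, 0, 1], [0, 0, 1, 0, -1, 0, 0, -1, -1],
    [0, 0, -1, 0, 1, 0, 0, 1], [0, 0, 0, 0, 0, 0, 0, -1], [0, 0, 0, 0, 1, 0, -1, 1, 1],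
    [0, 0, 0, 1, -1, -1, 1, 0, -1]]
  e :=
    [-1]
  N :=
    [[[-1, 0, 0, -1], [0, -1, 0, 0, -1], [0, -1, 0, -1, -1], [0, -1, -1, -1, -1],
    [0, 0, -1, -1, -1], [0, 0, 0, -1, -1], [0, 1, -1, 0, 0, -1]], [[0, 0, 0, -1],
    [-1, 0, 0, 0, -1], [0, 0, 0, -1, -1], [0, 0, -1, -1, -1], [0, 1, -1, -1, -1],
    [0, 1, 0, -1, -1], [0, 0, 0, 0, 0, -1]], [[0, 1, 1, 1, 1, 1], [0, 1, 2, 1, 1, 1, 1],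
    [-1, 1, 2, 2, 2, 2, 1], [0, 2, 3, 3, 3, 2, 1], [0, 1, 2, 2, 3, 2, 1], [0, 1, 1, 1, 2, 2, 1],
    [0, 0, 0, 1, 1, 1, 1, 1]], [[0, -1, -1, 0, -1], [0, -1, -1, -1, 0, -1],
    [0, -1, -2, -1, -1, -1], [-1, -2, -2, -2, -1, -1], [0, -2, -1, -2, -1, -1],
    [0, -1, -1, -1, -1, -1], [0, 0, 0, -1, -1, 0, -1]], [[0, 0, 1, 0, 1], [0, 1, 0, 1, 0, 1],
    [0, 0, 1, 1, 1, 1], [0, 1, 1, 2, 1, 1], [-1, 1, 0, 2, 1, 1], [0, 0, 0, 1, 1, 1],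
    [0, 0, 0, 0, 1, 0, 1]], [[0, 0, -1, 0, -1, -1], [0, -1, -1, -1, 0, -1, -1],
    [0, 0, -1, -1, -1, -2, -1], [0, -1, -1, -2, -2, -2, -1], [0, -1, 0, -1, -2, -2, -1],
    [-1, -1, 0, 0, -1, -2, -1], [0, -1, 0, 0, -1, 0, -1, -1]], [[0, 0, 1, 0, 0, 1],
    [0, 0, 1, 1, 0, 0, 1], [0, 0, 1, 1, 0, 1, 1], [0, 1, 1, 1, 1, 1, 1], [0, 1, 1, 0, 1, 1, 1],
    [0, 1, 1, 0, 0, 1, 1], [-1, 1, 0, 0, 1, 0, 0, 1]]]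

theorem chk_certE7 : certE7.chk = true := by decide +kernel

end CfsgLib.CoxTori
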