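import Cfsg.Agent.CoxTori.Cert
import Cfsg.Agent.CoxTori.Regular
import Cfsg.Agent.SteinbergPres.Fixed
import Cfsg.Agent.ChevSubfield.SubfieldGroup
import Cfsg.Agent.LangChev.Basic
import Mathlib.FieldTheory.IsAlgClosed.AlgebraicClosure
import Mathlib.RingTheory.RootsOfUnity.AlgebraicallyClosed
import Mathlib.FieldTheory.Finite.Basic
/-!
A certified twisted torus gives a self-centralising cyclic subgroup of the Chevalley group over
the finite field: with `g⁻¹ F(g) = n_w` in the presented group over the algebraic closure, the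
elements `g h(c) g⁻¹` with `c = w(c^q)` are fixed, form a cyclic group and map into the group over
the finite field.
-/

set_option autoImplicit false

namespace CfsgLib.CoxTori

open Cfsg.Lie CfsgLib.Chevalley CfsgLib.ChevTorus CfsgLib.SteinbergPres
open scoped MatrixGroups

theorem cartanMat_det_ne_zero {D : ChevalleyDatum}
    {P P' Q Q' : Matrix (Fin D.rank) (Fin D.rank) ℤ} {d : Fin D.rank → ℕ}
    (h : P * P' = 1 ∧ P' * P = 1 ∧ Q * Q' = 1 ∧
      P * cartanMat D * Q = Matrix.diagonal fun i => (d i : ℤ)) (hd : ∀ i, d i ≠ 0) :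
    (cartanMat D).det ≠ 0 := by
  intro h0
  have := congrArg Matrix.det h.2.2.2
  rw [Matrix.det_mul, Matrix.det_mul, h0, mul_zero, zero_mul, Matrix.det_diagonal, eq_comm,
    Finset.prod_eq_zero_iff] at this
  obtain ⟨i, -, hi⟩ := this
  exact hd i (by exact_mod_cast hi)

theorem pow_eq_self_iff_mem_range {F K : Type*} [Field F] [Field K] [Fintype F] (ι : F →+* K)
    (t : K) : t ^ Fintype.card F = t ↔ ∃ s, ι s = t := by
  classical
  constructor
  · intro ht
    set q := Fintype.card F
    have hq : 1 < q := Fintype.one_lt_card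
    let P : Polynomial K := Polynomial.X ^ q - Polynomial.X
    have hP : P ≠ 0 := FiniteField.X_pow_card_sub_X_ne_zero K hq
    have hroot : ∀ x : K, x ^ q = x → x ∈ P.roots.toFinset := fun x hx => by
      rw [Multiset.mem_toFinset, Polynomial.mem_roots hP]
      simp [P, hx]
    have hsub : Finset.univ.image ι ⊆ P.roots.toFinset := by
      intro x hx
      obtain ⟨s, -, rfl⟩ := Finset.mem_image.1 hx
      exact hroot _ (by rw [← map_pow, FiniteField.pow_card])
    have hcard : P.roots.toFinset.card ≤ (Finset.univ.image ι).card := by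
      rw [Finset.card_image_of_injective _ ι.injective, Finset.card_univ]
      exact (Multiset.toFinset_card_le _).trans ((Polynomial.card_roots' P).trans
        (FiniteField.X_pow_card_sub_X_natDegree_eq K hq).le)
    have := Finset.eq_of_subset_of_card_le hsub hcard
    have hx := hroot t ht
    rw [← this] at hx
    obtain ⟨s, -, hs⟩ := Finset.mem_image.1 hx
    exact ⟨s, hs⟩
  · rintro ⟨s, rfl⟩
    rw [← map_pow, FiniteField.pow_card]

variable {D : ChevalleyDatum} {C : Weyl.Cert D.rank} {M : CoxeterMatrix (Fin D.rank)}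
  {R : Weyl.RootTable} {F : Type*} [Field F] [Fintype F]

/-- The requirement on the values: none is `1`, only the trivial Weyl element preserves them. -/
def Separated (h : Weyl.RootGood C M R) (T : TorusCert D) (q : ℤ) (K : Type*) [Field K] : Prop :=
  ∀ z : Kˣ, (orderOf z : ℤ) = pev q T.P →
    (∀ r : Root D, torVal (T.tup q z) (Sum.inr r) ≠ 1) ∧
      ∀ w : M.Group, (∀ r : Root D, torVal (T.tup q z) (Sum.inr (h.rootPerm w r)) =
        torVal (T.tup q z) (Sum.inr r)) → w = 1

theorem main (hP : GoodPres D) (h : Weyl.RootGood C M R)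
    {P P' Q Q' : Matrix (Fin D.rank) (Fin D.rank) ℤ} {d : Fin D.rank → ℕ}
    (hd : P * P' = 1 ∧ P' * P = 1 ∧ Q * Q' = 1 ∧
      P * cartanMat D * Q = Matrix.diagonal fun i => (d i : ℤ)) (hd0 : ∀ i, d i ≠ 0)
    (hinj : Function.Injective (hbTor (K := AlgebraicClosure F) hP))
    (T : TorusCert D) (hT : T.chk = true) {P₁ : List ℤ} (hP1 : T.P = 1 :: P₁)
    {q : ℕ} (hq : Fintype.card F = q) (hpos : 0 < pev (q : ℤ) T.P)
    (hsep : Separated h T (q : ℤ) (AlgebraicClosure F)) :
    ∃ H : Subgroup ↥(D.group F), IsCyclic ↥H ∧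
      Nat.card ↥H * ∏ i, (q - 1).gcd (d i) = (pev (q : ℤ) T.P).natAbs ∧
      Subgroup.centralizer (H : Set ↥(D.group F)) = H := by
  classical
  set K := AlgebraicClosure F
  have hW := hP.toGoodWeyl
  let ι : F →+* K := algebraMap F K
  obtain ⟨p, hchar⟩ := CharP.exists F
  have hp : p.Prime := CharP.char_is_prime F p
  haveI : Fact p.Prime := ⟨hp⟩
  obtain ⟨⟨f, hf0⟩, -, hcard⟩ := FiniteField.card F p
  simp only [PNat.mk_coe] at hcard
  haveI : CharP K p := charP_of_injective_ringHom ι.injective p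
  have hqpf : q = p ^ f := hq.symm.trans hcard
  let σ : K →+* K := iterateFrobenius K p f
  have hσ : ∀ t : K, σ t = t ^ q := fun t => by rw [hqpf]; exact iterateFrobenius_def p f t
  have hfix : ∀ t : K, σ t = t ↔ ∃ s, ι s = t := fun t => by
    rw [hσ, ← hq]; exact pow_eq_self_iff_mem_range ι t
  -- the roots of unity of order `P(q)`
  set N := (pev (q : ℤ) T.P).natAbs with hNdef
  have hN : (N : ℤ) = pev (q : ℤ) T.P := Int.natAbs_of_nonneg hpos.le
  haveI : NeZero (N : K) := ⟨fun h0 => by
    have h1 : ((N : ℤ) : K) = 0 := by exact_mod_cast h0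
    rw [hN, hP1, pev_cons] at h1
    push_cast at h1
    rw [show (q : K) = 0 by rw [hqpf]; push_cast; rw [CharP.cast_eq_zero, zero_pow (by omega)],
      zero_mul, add_zero] at h1
    exact one_ne_zero h1⟩
  haveI : NeZero N := .of_neZero_natCast K
  obtain ⟨ζ, hζ⟩ := HasEnoughRootsOfUnity.exists_primitiveRoot K N
  have hζu : IsPrimitiveRoot (hζ.isUnit (NeZero.ne N)).unit N := hζ.isUnit_unit (NeZero.ne N)
  set z₀ : Kˣ := (hζ.isUnit (NeZero.ne N)).unit
  have hord : orderOf z₀ = N := hζu.eq_orderOf.symm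
  have hroot : ∀ z : Kˣ, z ^ pev (q : ℤ) T.P = 1 → z ∈ Subgroup.zpowers z₀ := fun z hz => by
    rw [hζu.zpowers_eq, mem_rootsOfUnity]
    rwa [← hN, zpow_natCast] at hz
  have hpow : ∀ z : Kˣ, z ∈ Subgroup.zpowers z₀ → z ^ pev (q : ℤ) T.P = 1 := by
    rintro z ⟨k, rfl⟩
    show (z₀ ^ k) ^ pev (q : ℤ) T.P = 1
    rw [← zpow_mul, mul_comm, zpow_mul, ← hN, zpow_natCast, ← hord, pow_orderOf_eq_one, one_zpow]
  -- the twisting element
  obtain ⟨θ, hθ⟩ := exists_hom (K := K) hW
  have hrange := range_eq_group hW hθ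
  have hdet := cartanMat_det_ne_zero hd hd0
  obtain ⟨g, hg, hlang⟩ := LangChev.lang hW h hdet p f (Nat.one_le_iff_ne_zero.2 (by omega))
    (show θ (nWordBar hW T.word) ∈ D.group K from hrange ▸ ⟨_, rfl⟩)
  obtain ⟨gb, rfl⟩ : g ∈ θ.range := hrange.symm ▸ hg
  set n : D.SteinbergGroup K := nWordBar hW T.word with hn
  set z : D.SteinbergGroup K := gb⁻¹ * stMap D σ gb * n⁻¹ with hz
  have hzc : z ∈ Subgroup.center (D.SteinbergGroup K) := by
    refine ker_le_center hP h hθ ?_
    rw [MonoidHom.mem_ker, hz, map_mul, map_mul, map_inv, map_inv, map_stMap hW hθ hθ σ, ← hlang]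
    show (θ gb)⁻¹ * LangChev.frobGL K p f (θ gb) * _ = 1
    rw [mul_inv_cancel]
  have hσgb : stMap D σ gb = gb * z * n := by rw [hz]; group
  let ψ : (Fin D.rank → Kˣ) →* D.SteinbergGroup K :=
    (MulAut.conj gb).toMonoidHom.comp (hbTor hP)
  have hψ : ∀ c, ψ c = gb * hbTor hP c * gb⁻¹ := fun c => rfl
  -- fixed elements of the twisted torus
  have hσψ : ∀ c, stMap D σ (ψ c) = ψ (monAct (wMat D T.word) fun k => c k ^ (q : ℤ)) := by
    intro c
    have hpw : (fun k => Units.map σ.toMonoidHom (c k)) = fun k => c k ^ (q : ℤ) := by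
      funext k
      refine Units.ext ?_
      rw [zpow_natCast, Units.val_pow_eq_pow_val]
      exact hσ (c k : K)
    rw [hψ, hψ, map_mul, map_mul, map_inv, stMap_hbTor, hpw, hσgb, ← nWordBar_conj hP]
    have hc := Subgroup.mem_center_iff.1 hzc
    calc gb * z * n * hbTor hP (fun k => c k ^ (q : ℤ)) * (gb * z * n)⁻¹
        = gb * (z * (n * hbTor hP (fun k => c k ^ (q : ℤ)) * n⁻¹) * z⁻¹) * gb⁻¹ := by group
      _ = _ := by rw [← hc, mul_inv_cancel_right]
  have hψinj : Function.Injective ψ := (MulAut.conj gb).injective.comp hinj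
  have hfixψ : ∀ c, stMap D σ (ψ c) = ψ c ↔ monAct (T.gMat (q : ℤ)) c = 1 := fun c => by
    rw [hσψ, hψinj.eq_iff, TorusCert.monAct_gMat]
  -- the torus in the group over the finite field
  let ω : Kˣ →* GL D.Idx K := (θ.comp ψ).comp (T.tup (q : ℤ))
  have hmap : (D.group F).map (Matrix.GeneralLinearGroup.map ι) =
      ChevSubfield.fixElem hW.good σ := ChevSubfield.map_group_eq hW.good ι σ hfix
  have hωmem : ω z₀ ∈ ChevSubfield.fixElem hW.good σ :=
    map_mem_fixElem hP h hinj hθ
      ((hfixψ _).2 (TorusCert.monAct_tup _ hT (hpow z₀ (Subgroup.mem_zpowers z₀))))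
  rw [← hmap] at hωmem
  obtain ⟨y, hy, hyω⟩ := hωmem
  have hιinj : Function.Injective (Matrix.GeneralLinearGroup.map (n := D.Idx) ι) :=
    map_injective_GL ι.injective
  let y' : ↥(D.group F) := ⟨y, hy⟩
  let m : ↥(D.group F) →* GL D.Idx K :=
    (Matrix.GeneralLinearGroup.map ι).comp (D.group F).subtype
  have hminj : Function.Injective m := hιinj.comp Subtype.val_injective
  have hmy : m y' = ω z₀ := hyω
  refine ⟨Subgroup.zpowers y', Subgroup.isCyclic_zpowers y', ?_, ?_⟩
  · rw [Nat.card_zpowers, ← orderOf_injective m hminj, hmy, ← Nat.card_zpowers,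
      ← MonoidHom.map_zpowers]
    let ω' := ω.comp (Subgroup.zpowers z₀).subtype
    have hr : (Subgroup.zpowers z₀).map ω = ω'.range := by
      rw [MonoidHom.range_comp, Subgroup.range_subtype]
    rw [hr, ← Subgroup.index_ker, mul_comm]
    refine Eq.trans ?_ (((Subgroup.card_mul_index ω'.ker)).trans
      ((Nat.card_zpowers z₀).trans hord))
    congr 1
    -- the kernel
    have hc : ∀ a : ↥(Subgroup.zpowers z₀), ω' a = 1 ↔
        monAct (cartanMat D) (T.tup (q : ℤ) (a : Kˣ)) = 1 := fun a => by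
      rw [← torC_eq_one_iff hW, ← map_hbTor hP hθ]
      show θ (gb * hbTor hP _ * gb⁻¹) = 1 ↔ _
      rw [map_mul, map_mul, map_inv, mul_inv_eq_one, mul_eq_left]; rfl
    let tu : ↥(Subgroup.zpowers z₀) →* (Fin D.rank → Kˣ) :=
      (T.tup (q : ℤ)).comp (Subgroup.zpowers z₀).subtype
    have htu : Function.Injective tu := fun a b e => Subtype.ext <| by
      rw [← TorusCert.prod_tup _ hT (hpow _ a.2), ← TorusCert.prod_tup _ hT (hpow _ b.2)]
      exact congrArg (fun c : Fin D.rank → Kˣ => ∏ k, c k ^ pev (q : ℤ) (T.uP k)) e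
    let jm : (Fin D.rank → Fˣ) →* (Fin D.rank → Kˣ) :=
      MonoidHom.mk' (fun c k => Units.map (ι : F →* K) (c k)) fun a b => by funext k; simp
    have hjm : Function.Injective jm := fun a b e => funext fun k =>
      Units.map_injective (f := (ι : F →* K)) ι.injective (congrFun e k)
    have hjmc : ∀ c, monAct (cartanMat D) (jm c) = jm (monAct (cartanMat D) c) := fun c => by
      funext j
      show ∏ k, (Units.map (ι : F →* K) (c k)) ^ _ = Units.map (ι : F →* K) (∏ k, c k ^ _)
      rw [map_prod]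
      simp only [map_zpow]
    have heq : ω'.ker.map tu = (monAct (G := Fˣ) (cartanMat D)).ker.map jm := by
      have key : ∀ c : Fin D.rank → Kˣ, monAct (cartanMat D) c = 1 →
          (monAct (T.gMat (q : ℤ)) c = 1 ↔ ∀ k, c k ^ (q : ℤ) = c k) := by
        intro c hc1
        have hW1 : ∀ c' : Fin D.rank → Kˣ, monAct (cartanMat D) c' = 1 →
            monAct (wMat D T.word) c' = c' := by
          intro c' hc'
          have hcen : hbTor hP c' ∈ Subgroup.center (D.SteinbergGroup K) :=
            (center_eq_map (K := K) hP h).symm ▸ ⟨c', hc', rfl⟩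
          refine hinj ?_
          rw [← nWordBar_conj hP, Subgroup.mem_center_iff.1 hcen, mul_inv_cancel_right]
        have hcq : monAct (cartanMat D) (fun k => c k ^ (q : ℤ)) = 1 := by
          funext j
          show ∏ k, (c k ^ (q : ℤ)) ^ _ = 1
          simp only [← zpow_mul, mul_comm (q : ℤ)]
          simp only [zpow_mul, Finset.prod_zpow]
          rw [show ∏ k, c k ^ cartanMat D k j = 1 from congrFun hc1 j, one_zpow]
        rw [TorusCert.monAct_gMat, hW1 _ hcq, funext_iff]
      ext c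
      constructor
      · rintro ⟨a, ha, rfl⟩
        have h1 : monAct (cartanMat D) (tu a) = 1 := (hc a).1 ha
        have h2 : ∀ k, ∃ s : Fˣ, Units.map (ι : F →* K) s = tu a k := by
          intro k
          have h3 : tu a k ^ (q : ℤ) = tu a k :=
            (key _ h1).1 (TorusCert.monAct_tup _ hT (hpow _ a.2)) k
          rw [zpow_natCast] at h3
          obtain ⟨s, hs⟩ := (hfix (tu a k : K)).1 (by
            rw [hσ, ← Units.val_pow_eq_pow_val, h3])
          have hs0 : s ≠ 0 := fun e => (tu a k).ne_zero (by rw [← hs, e, map_zero])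
          exact ⟨Units.mk0 s hs0, Units.ext hs⟩
        choose s hs using h2
        have e : jm s = tu a := funext hs
        refine ⟨s, hjm ?_, e⟩
        rw [← hjmc, e, h1, map_one]
      · rintro ⟨s, hs, rfl⟩
        have h1 : monAct (cartanMat D) (jm s) = 1 := by
          rw [hjmc, MonoidHom.mem_ker.1 hs, map_one]
        have h2 : monAct (T.gMat (q : ℤ)) (jm s) = 1 := (key _ h1).2 fun k => by
          refine Units.ext ?_
          rw [zpow_natCast, Units.val_pow_eq_pow_val, ← hσ]
          exact (hfix _).2 ⟨(s k : F), rfl⟩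
        obtain ⟨a, ha, e⟩ := TorusCert.exists_param _ hT h2
        exact ⟨⟨a, hroot a ha⟩, (hc _).2 (e.symm ▸ h1), e⟩
    rw [Nat.card_congr (Subgroup.equivMapOfInjective _ tu htu).toEquiv, heq,
      ← Nat.card_congr (Subgroup.equivMapOfInjective _ jm hjm).toEquiv, card_ker_monAct hd,
      Nat.card_units, Nat.card_eq_fintype_card, hq]
  · refine le_antisymm (fun x hx => ?_) ?_
    · have hx' : y' * x = x * y' := hx y' (Subgroup.mem_zpowers y')
      have hmx : m x ∈ ChevSubfield.fixElem hW.good σ :=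
        hmap ▸ Subgroup.mem_map_of_mem _ x.2
      rw [← map_fixGen hW hθ] at hmx
      obtain ⟨xb', hxb, hxe⟩ := hmx
      have hxfix : stMap D σ xb' = xb' := stMap_fixGen hxb
      set v := gb⁻¹ * xb' * gb with hv
      have hcomm : torC D (T.tup (q : ℤ) z₀) * θ v = θ v * torC D (T.tup (q : ℤ) z₀) := by
        have e := congrArg m hx'
        rw [map_mul, map_mul, hmy, ← hxe] at e
        change θ (gb * hbTor hP (T.tup (q : ℤ) z₀) * gb⁻¹) * θ xb' =
          θ xb' * θ (gb * hbTor hP (T.tup (q : ℤ) z₀) * gb⁻¹) at e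
        rw [← map_hbTor hP hθ, ← map_mul, ← map_mul, hv]
        rw [← map_mul, ← map_mul] at e
        have e2 := congrArg (fun u => (θ gb)⁻¹ * u * θ gb) e
        simp only [← map_inv, ← map_mul] at e2
        refine Eq.trans ?_ (e2.trans ?_) <;> congr 1 <;> group
      obtain ⟨hne, hw⟩ := hsep z₀ (by rw [hord, hN])
      have hvd : θ v ∈ D.diagonalSubgroup K :=
        mem_diag_of_commute hW h hne hw (hrange ▸ ⟨v, rfl⟩) hcomm
      rw [diagonalSubgroup_eq_range hW] at hvd
      obtain ⟨c', hc'⟩ := hvd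
      have hker : θ (v * (hbTor hP c')⁻¹) = 1 := by
        rw [map_mul, map_inv, map_hbTor hP hθ, mul_inv_eq_one]
        exact hc'.symm
      have hmem := mul_mem (mem_hBar_of_map_eq_one hP h hθ hker)
        (show hbTor (K := K) hP c' ∈ hBar hW from (hBar_eq_range (K := K) hP).symm ▸ ⟨c', rfl⟩)
      rw [inv_mul_cancel_right, hBar_eq_range hP] at hmem
      obtain ⟨c, hc⟩ := hmem
      have hxψ : ψ c = xb' := by rw [hψ, hc, hv]; group
      have hg1 : monAct (T.gMat (q : ℤ)) c = 1 := (hfixψ c).1 (by rw [hxψ, hxfix])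
      obtain ⟨a, ha, e⟩ := TorusCert.exists_param _ hT hg1
      obtain ⟨k, hk⟩ := Subgroup.mem_zpowers_iff.1 (hroot a ha)
      refine Subgroup.mem_zpowers_iff.2 ⟨k, hminj ?_⟩
      rw [map_zpow, hmy, ← map_zpow, hk, ← hxe, ← hxψ, ← e]
      rfl
    · intro x hx
      rw [Subgroup.mem_centralizer_iff]
      rintro w hw
      obtain ⟨i, rfl⟩ := hx
      obtain ⟨j, rfl⟩ := hw
      exact ((Commute.refl y').zpow_zpow j i).eq

end CfsgLib.CoxTori
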