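import Cfsg.Agent.SteinbergPres.TorusKernel
/-!
Conjugation of `∏ h̄_k(c_k)` by the products of the elements `n̄_i(1)` along a word.
-/

set_option autoImplicit false

namespace CfsgLib.CoxTori

open Cfsg.Lie CfsgLib.Chevalley CfsgLib.ChevTorus CfsgLib.SteinbergPres

variable {D : ChevalleyDatum} {K : Type*} [Field K]

/-- A reflection acting on exponent rows. -/
def stepRow (D : ChevalleyDatum) (i : Fin D.rank) (row : List ℤ) : List ℤ :=
  List.ofFn fun j : Fin D.rank =>
    if j = i then row.getD j 0 - ((List.ofFn fun m : Fin D.rank =>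
      row.getD m 0 * D.cartan m (D.simple i)).sum) else row.getD j 0

/-- A row of the matrix of a word. -/
def wordRow (D : ChevalleyDatum) (k : Fin D.rank) : List (Fin D.rank) → List ℤ
  | [] => List.ofFn fun j : Fin D.rank => if k = j then 1 else 0
  | i :: w => stepRow D i (wordRow D k w)

/-- The matrix of a word on exponent tuples. -/
def wMat (D : ChevalleyDatum) (w : List (Fin D.rank)) : Matrix (Fin D.rank) (Fin D.rank) ℤ :=
  Matrix.of fun k j => (wordRow D k w).getD j 0

/-- The matrix of a fundamental reflection on exponent tuples. -/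
def sMat (D : ChevalleyDatum) (i : Fin D.rank) : Matrix (Fin D.rank) (Fin D.rank) ℤ :=
  Matrix.of fun m j =>
    (if m = j then 1 else 0) - if j = i then D.cartan m (D.simple i) else 0

theorem getD_ofFn {n : ℕ} (f : Fin n → ℤ) (j : Fin n) : (List.ofFn f).getD j 0 = f j := by
  simp [List.getD_eq_getElem?_getD]

theorem wMat_nil : wMat D [] = 1 := by
  ext k j
  simp [wMat, wordRow, Matrix.one_apply]

theorem wMat_cons (i : Fin D.rank) (w : List (Fin D.rank)) :
    wMat D (i :: w) = wMat D w * sMat D i := by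
  ext k j
  simp only [wMat, wordRow, Matrix.of_apply, stepRow, getD_ofFn, Matrix.mul_apply, sMat, mul_sub,
    Finset.sum_sub_distrib, mul_ite, mul_one, mul_zero, Finset.sum_ite_eq', Finset.mem_univ,
    if_true, List.sum_ofFn]
  rcases eq_or_ne j i with rfl | hji
  · simp
  · simp [hji]

theorem nb_conj_hb_eq (hP : GoodPres D) (i j : Fin D.rank) (u : Kˣ) :
    nb hP.toGoodWeyl i 1 * hb hP.toGoodWeyl j u * (nb hP.toGoodWeyl i 1)⁻¹ =
      hb hP.toGoodWeyl j u * hb hP.toGoodWeyl i (u ^ (-D.cartan j (D.simple i))) := by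
  have hW := hP.toGoodWeyl
  rw [show nb hW i 1 * hb hW j u * (nb hW i 1)⁻¹ = hb hW j u *
    ((hb hW j u⁻¹ * nb hW i 1 * (hb hW j u⁻¹)⁻¹) * (nb hW i 1)⁻¹) by
    rw [show hb hW j u⁻¹ = (hb hW j u)⁻¹ from map_inv (hbHom hW j) u]; group,
    hb_conj_nb hP, nb_mul_inv, hb_one, inv_one, mul_one, mul_one, inv_zpow, ← zpow_neg]
  rfl

theorem nb_conj_hbTor (hP : GoodPres D) (i : Fin D.rank) (c : Fin D.rank → Kˣ) :
    nb hP.toGoodWeyl i 1 * hbTor hP c * (nb hP.toGoodWeyl i 1)⁻¹ =
      hbTor hP (monAct (sMat D i) c) := by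
  have h : (MulAut.conj (nb (K := K) hP.toGoodWeyl i 1)).toMonoidHom.comp (hbTor hP) =
      (hbTor hP).comp (monAct (sMat D i)) := MonoidHom.pi_ext fun j u => by
    rw [MonoidHom.comp_apply, MonoidHom.comp_apply, hbTor_single, MulEquiv.coe_toMonoidHom,
      MulAut.conj_apply, nb_conj_hb_eq hP, ← hbTor_single hP, ← hbTor_single hP, ← map_mul]
    congr 1
    funext m
    simp only [monAct, MonoidHom.coe_mk, OneHom.coe_mk, sMat, Matrix.of_apply, Pi.mul_apply]
    rw [Finset.prod_eq_single j (fun k _ hk => by simp [Pi.mulSingle_eq_of_ne hk]) (by simp)]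
    rcases eq_or_ne m i with rfl | hmi
    · rcases eq_or_ne j m with rfl | hjm
      · simp [zpow_sub, zpow_neg]
      · simp [Pi.mulSingle_eq_of_ne hjm.symm, hjm]
    · rcases eq_or_ne j m with rfl | hjm
      · simp [hmi]
      · simp [Pi.mulSingle_eq_of_ne hjm.symm, Pi.mulSingle_eq_of_ne hmi, hjm, hmi]
  exact DFunLike.congr_fun h c

/-- The product of `n̄_i(1)` along a word. -/
def nWordBar (hW : GoodWeyl D) (w : List (Fin D.rank)) : D.SteinbergGroup K :=
  (w.map fun i => nb hW i 1).prod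

theorem nWordBar_conj (hP : GoodPres D) (w : List (Fin D.rank)) :
    ∀ c : Fin D.rank → Kˣ,
      nWordBar hP.toGoodWeyl w * hbTor hP c * (nWordBar hP.toGoodWeyl w)⁻¹ =
        hbTor hP (monAct (wMat D w) c) := by
  induction w with
  | nil => intro c; simp [nWordBar, wMat_nil, monAct_one]
  | cons i w ih =>
    intro c
    rw [wMat_cons, monAct_mul, ← nb_conj_hbTor hP, ← ih]
    simp only [nWordBar, List.map_cons, List.prod_cons, mul_inv_rev]
    group

end CfsgLib.CoxTori
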