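import Cfsg.Agent.CoxTori.Values
import Cfsg.Agent.CoxTori.Data
/-!
The separation checks of the tori of E₆ and E₇.
-/

set_option autoImplicit false

namespace CfsgLib.CoxTori

theorem large_E6 : certE6.chkLarge = true := by decide +kernel

theorem small_E6 : ([2, 3, 4, 5, 6] : List ℤ).all certE6.chkSmall = true := by decide +kernel

theorem large_E7 : certE7.chkLarge = true := by decide +kernel

theorem small_E7 : ([2, 3, 4, 5, 6] : List ℤ).all certE7.chkSmall = true := by decide +kernel

end CfsgLib.CoxTori
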